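import Cfsg.Agent.H750.F43.UTwo

/-!
# Eigenvectors of an element of `Sp₆(3)` (S2464, F₄(3), box E44 of helper69; helper38)

`card_eig_le` : if `l ≠ ±1` and neither `l` nor `-l` is a transvection, then at most 88 non-zero vectors are
eigenvectors of `l` with eigenvalue `1` or `-1`.
-/

set_option autoImplicit false

namespace Cfsg.Agent.H38.F43

open Cfsg Matrix Module
open Cfsg.Agent.H700.F43 Cfsg.Agent.H750.F43
open Cfsg.Agent.ClassicalGeometry.SympBasic

local notation "f" => sympForm 3 F3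

/-- the fixed vectors -/
def fixV (l : Sp) : Submodule F3 V6 where
  carrier := {v | l.1 *ᵥ v = v}
  add_mem' := fun {a b} ha hb => by
    show l.1 *ᵥ (a + b) = a + b
    rw [Matrix.mulVec_add, show l.1 *ᵥ a = a from ha, show l.1 *ᵥ b = b from hb]
  zero_mem' := Matrix.mulVec_zero _
  smul_mem' := fun c a ha => by
    show l.1 *ᵥ (c • a) = c • a
    rw [Matrix.mulVec_smul, show l.1 *ᵥ a = a from ha]

theorem mem_fixV {l : Sp} {v : V6} : v ∈ fixV l ↔ l.1 *ᵥ v = v := Iff.rfl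

theorem finrank_V6 : finrank F3 V6 = 6 := by
  rw [Module.finrank_fintype_fun_eq_card]
  rfl

theorem three_prime : Fact (Nat.Prime 3) := ⟨Nat.prime_three⟩

/-- an element fixing a hyperplane is a transvection -/
theorem eq_transv {l : Sp} (h1 : l ≠ 1) (h : 5 ≤ finrank F3 (fixV l)) : ∃ (v : V6) (k : F3), l = transv v k := by
  have : Fact (Nat.Prime 3) := three_prime
  obtain ⟨x0, hx0⟩ : ∃ x0 : V6, l.1 *ᵥ x0 ≠ x0 := by
    by_contra hcon
    push Not at hcon
    exact h1 (ext_mv fun v => by rw [hcon, one_mv])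
  have hx1 : x0 ∉ fixV l := hx0
  have htop : fixV l ⊔ Submodule.span F3 {x0} = ⊤ := by
    apply Submodule.eq_top_of_finrank_eq
    apply le_antisymm (Submodule.finrank_le _)
    have hlt : fixV l < fixV l ⊔ Submodule.span F3 {x0} := by
      refine lt_of_le_of_ne le_sup_left fun e => hx1 ?_
      rw [e]
      exact Submodule.mem_sup_right (Submodule.mem_span_singleton_self x0)
    have h2 := Submodule.finrank_lt_finrank_of_lt hlt
    rw [finrank_V6]
    omega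
  have hdec : ∀ x : V6, ∃ (a : F3) (y : V6), y ∈ fixV l ∧ x = y + a • x0 := by
    intro x
    have h2 : x ∈ fixV l ⊔ Submodule.span F3 {x0} := by rw [htop]; exact Submodule.mem_top
    obtain ⟨y, hy, z, hz, e⟩ := Submodule.mem_sup.1 h2
    obtain ⟨a, rfl⟩ := Submodule.mem_span_singleton.1 hz
    exact ⟨a, y, hy, e.symm⟩
  set v0 : V6 := l.1 *ᵥ x0 - x0 with hv0
  have hv1 : v0 ≠ 0 := sub_ne_zero.2 hx0
  have hlx0 : l.1 *ᵥ x0 = x0 + v0 := by rw [hv0]; abel
  have hperp : ∀ y ∈ fixV l, f y v0 = 0 := by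
    intro y hy
    rw [hv0, sympForm_sub_right]
    have h3 := fm l y x0
    rw [show l.1 *ᵥ y = y from hy] at h3
    rw [h3, sub_self]
  have hf0 : f x0 v0 ≠ 0 := by
    intro h0
    apply hv1
    apply eq_zero_of_forall_sympForm_left
    intro w
    obtain ⟨a, y, hy, rfl⟩ := hdec w
    rw [sympForm_add_left, sympForm_smul_left, hperp y hy, h0, mul_zero, add_zero]
  refine ⟨v0, (f x0 v0)⁻¹, ext_mv fun x => ?_⟩
  obtain ⟨a, y, hy, rfl⟩ := hdec x
  rw [coe_transv, sympTransvection_mulVec, Matrix.mulVec_add, Matrix.mulVec_smul, hlx0,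
    show l.1 *ᵥ y = y from hy, sympForm_add_left, sympForm_smul_left, hperp y hy, zero_add]
  have h4 : (f x0 v0)⁻¹ * (a * f x0 v0) = a := by
    rw [mul_comm a, ← mul_assoc, inv_mul_cancel₀ hf0, one_mul]
  rw [h4, smul_add]
  abel

theorem ng_mv (l : Sp) (v : V6) : (ng * l).1 *ᵥ v = -(l.1 *ᵥ v) := by
  rw [mul_mv]
  show (-1 : Matrix (Fin 3 ⊕ Fin 3) (Fin 3 ⊕ Fin 3) F3) *ᵥ _ = _
  rw [Matrix.neg_mulVec, Matrix.one_mulVec]

theorem ng_mul_ne {l : Sp} (h : l ≠ ng) : ng * l ≠ 1 := by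
  intro h1
  apply h
  apply ext_mv
  intro v
  have h2 : (ng * l).1 *ᵥ v = v := by rw [h1, one_mv]
  rw [ng_mv] at h2
  have h3 : ng.1 *ᵥ v = -v := by
    show (-1 : Matrix (Fin 3 ⊕ Fin 3) (Fin 3 ⊕ Fin 3) F3) *ᵥ _ = _
    rw [Matrix.neg_mulVec, Matrix.one_mulVec]
  rw [h3]
  rw [neg_eq_iff_eq_neg] at h2
  exact h2

theorem disj (l : Sp) : fixV l ⊓ fixV (ng * l) = ⊥ := by
  rw [eq_bot_iff]
  intro v hv
  obtain ⟨h1, h2⟩ := Submodule.mem_inf.1 hv
  have h3 : l.1 *ᵥ v = v := h1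
  have h4 : (ng * l).1 *ᵥ v = v := h2
  rw [ng_mv, h3] at h4
  rw [Submodule.mem_bot]
  funext j
  have h5 := congrFun h4 j
  rw [Pi.neg_apply] at h5
  rw [Pi.zero_apply]
  have key : ∀ a : F3, -a = a → a = 0 := by decide
  exact key _ h5

theorem card_sub (U : Submodule F3 V6) : Nat.card {v : V6 // v ≠ 0 ∧ v ∈ U} = 3 ^ finrank F3 U - 1 := by
  classical
  have h0 : Nat.card U = 3 ^ finrank F3 U := by
    have := Module.natCard_eq_pow_finrank (K := F3) (V := U)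
    rw [this, Nat.card_zmod]
  have h1 : Nat.card {v : V6 // v ≠ 0 ∧ v ∈ U} = Nat.card {u : U // u ≠ 0} := by
    refine Nat.card_congr ⟨fun v => ⟨⟨v.1, v.2.2⟩, fun h => v.2.1 (congrArg Subtype.val h)⟩,
      fun u => ⟨u.1.1, fun h => u.2 (Subtype.ext h), u.1.2⟩, fun _ => rfl, fun _ => rfl⟩
  rw [h1, ← h0, Nat.card_eq_fintype_card, Nat.card_eq_fintype_card, Fintype.card_subtype_compl, Fintype.card_subtype_eq]

/-- **Box E44.** -/
theorem card_eig_le {l : Sp} (h1 : l ≠ 1) (hn : l ≠ ng) (h3 : ∀ (v : V6) (k : F3), l ≠ transv v k)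
    (h4 : ∀ (v : V6) (k : F3), ng * l ≠ transv v k) :
    Nat.card {v : V6 // v ≠ 0 ∧ (l.1 *ᵥ v = v ∨ l.1 *ᵥ v = -v)} ≤ 88 := by
  classical
  have ha : finrank F3 (fixV l) ≤ 4 := by
    by_contra hcon
    obtain ⟨v, k, e⟩ := eq_transv h1 (by omega)
    exact h3 v k e
  have hb : finrank F3 (fixV (ng * l)) ≤ 4 := by
    by_contra hcon
    obtain ⟨v, k, e⟩ := eq_transv (ng_mul_ne hn) (by omega)
    exact h4 v k e
  have hab : finrank F3 (fixV l) + finrank F3 (fixV (ng * l)) ≤ 6 := by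
    have e := Submodule.finrank_sup_add_finrank_inf_eq (fixV l) (fixV (ng * l))
    rw [disj, finrank_bot, add_zero] at e
    have e2 := Submodule.finrank_le (fixV l ⊔ fixV (ng * l))
    rw [finrank_V6] at e2
    omega
  have hc : Nat.card {v : V6 // v ≠ 0 ∧ (l.1 *ᵥ v = v ∨ l.1 *ᵥ v = -v)} ≤
      Nat.card {v : V6 // v ≠ 0 ∧ v ∈ fixV l} + Nat.card {v : V6 // v ≠ 0 ∧ v ∈ fixV (ng * l)} := by
    rw [← Nat.card_sum]
    refine Nat.card_le_card_of_injective (fun v : {v : V6 // v ≠ 0 ∧ (l.1 *ᵥ v = v ∨ l.1 *ᵥ v = -v)} =>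
      if h : l.1 *ᵥ v.1 = v.1 then (Sum.inl ⟨v.1, v.2.1, h⟩ : {v : V6 // v ≠ 0 ∧ v ∈ fixV l} ⊕
        {v : V6 // v ≠ 0 ∧ v ∈ fixV (ng * l)})
      else Sum.inr ⟨v.1, v.2.1, by
        show (ng * l).1 *ᵥ v.1 = v.1
        rw [ng_mv, v.2.2.resolve_left h, neg_neg]⟩) ?_
    intro v w hvw
    dsimp only at hvw
    split_ifs at hvw with h5 h6 h6
    · exact Subtype.ext (Subtype.mk.inj (Sum.inl_injective hvw))
    · exact Subtype.ext (Subtype.mk.inj (Sum.inr_injective hvw))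
  rw [card_sub, card_sub] at hc
  refine hc.trans ?_
  generalize finrank F3 (fixV l) = a at ha hab
  generalize finrank F3 (fixV (ng * l)) = b at hb hab
  interval_cases a <;> interval_cases b <;> first | omega | norm_num

end Cfsg.Agent.H38.F43
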