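import Cfsg.Agent.H750.F43.UTwo

/-!
# The action of the transvections of `Sp₆(3)` on `V₁₄` (S2464, F₄(3), box TV of helper69; helper38)

* `Ntv v` : `ww x y z ↦ f(x,v) ww v y z + f(y,v) ww x v z + f(z,v) ww x y v`, explicit (quadratic in `v`);
* `Xtv v k = 1 + k Ntv v`, `rel_tv : Rel (transv v k) (Xtv v k)`.
-/

set_option autoImplicit false

namespace Cfsg.Agent.H38.F43

open Cfsg Matrix Module
open Cfsg.Agent.H700.F43 Cfsg.Agent.H750.F43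
open Cfsg.Agent.ClassicalGeometry.SympBasic

local notation "f" => sympForm 3 F3

set_option maxHeartbeats 4000000 in
/-- the derivation attached to `v` -/
def Ntv (v : V6) : V14 →ₗ[F3] V14 where
  toFun w := ![
    (v (Sum.inl 0) * v (Sum.inr 0) + v (Sum.inl 1) * v (Sum.inr 1) + v (Sum.inl 2) * v (Sum.inr 2)) * w 0 + (-v
      (Sum.inr 0) * v (Sum.inr 0)) * w 1 + (-v (Sum.inr 1) * v (Sum.inr 1)) * w 2 + (-v (Sum.inr 2) * v (Sum.inr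
      2)) * w 3 + (v (Sum.inr 1) * v (Sum.inr 2)) * w 4 + (v (Sum.inr 0) * v (Sum.inr 2)) * w 5 + (v (Sum.inr 0)
      * v (Sum.inr 1)) * w 6,
    (v (Sum.inl 0) * v (Sum.inl 0)) * w 0 + (-v (Sum.inl 0) * v (Sum.inr 0) + v (Sum.inl 1) * v (Sum.inr 1) + v
      (Sum.inl 2) * v (Sum.inr 2)) * w 1 + (v (Sum.inl 0) * v (Sum.inr 2)) * w 5 + (v (Sum.inl 0) * v (Sum.inr
      1)) * w 6 + (-v (Sum.inr 2) * v (Sum.inr 2)) * w 8 + (-v (Sum.inr 1) * v (Sum.inr 1)) * w 9 + (-v (Sum.inr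
      1) * v (Sum.inr 2)) * w 10,
    (v (Sum.inl 1) * v (Sum.inl 1)) * w 0 + (v (Sum.inl 0) * v (Sum.inr 0) - v (Sum.inl 1) * v (Sum.inr 1) + v
      (Sum.inl 2) * v (Sum.inr 2)) * w 2 + (v (Sum.inl 1) * v (Sum.inr 2)) * w 4 + (v (Sum.inl 1) * v (Sum.inr
      0)) * w 6 + (-v (Sum.inr 2) * v (Sum.inr 2)) * w 7 + (-v (Sum.inr 0) * v (Sum.inr 0)) * w 9 + (-v (Sum.inr
      0) * v (Sum.inr 2)) * w 11,
    (v (Sum.inl 2) * v (Sum.inl 2)) * w 0 + (v (Sum.inl 0) * v (Sum.inr 0) + v (Sum.inl 1) * v (Sum.inr 1) - v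
      (Sum.inl 2) * v (Sum.inr 2)) * w 3 + (v (Sum.inl 2) * v (Sum.inr 1)) * w 4 + (v (Sum.inl 2) * v (Sum.inr
      0)) * w 5 + (-v (Sum.inr 1) * v (Sum.inr 1)) * w 7 + (-v (Sum.inr 0) * v (Sum.inr 0)) * w 8 + (-v (Sum.inr
      0) * v (Sum.inr 1)) * w 12,
    (-2 * v (Sum.inl 1) * v (Sum.inl 2)) * w 0 + (2 * v (Sum.inl 2) * v (Sum.inr 1)) * w 2 + (2 * v (Sum.inl 1)
      * v (Sum.inr 2)) * w 3 + (v (Sum.inl 0) * v (Sum.inr 0)) * w 4 + (-v (Sum.inl 1) * v (Sum.inr 0)) * w 5 +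
      (-v (Sum.inl 2) * v (Sum.inr 0)) * w 6 + (-2 * v (Sum.inr 1) * v (Sum.inr 2)) * w 7 + (v (Sum.inr 0) * v
      (Sum.inr 0)) * w 10 + (-v (Sum.inr 0) * v (Sum.inr 1)) * w 11 + (-v (Sum.inr 0) * v (Sum.inr 2)) * w 12,
    (-2 * v (Sum.inl 0) * v (Sum.inl 2)) * w 0 + (2 * v (Sum.inl 2) * v (Sum.inr 0)) * w 1 + (2 * v (Sum.inl 0)
      * v (Sum.inr 2)) * w 3 + (-v (Sum.inl 0) * v (Sum.inr 1)) * w 4 + (v (Sum.inl 1) * v (Sum.inr 1)) * w 5 +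
      (-v (Sum.inl 2) * v (Sum.inr 1)) * w 6 + (-2 * v (Sum.inr 0) * v (Sum.inr 2)) * w 8 + (-v (Sum.inr 0) * v
      (Sum.inr 1)) * w 10 + (v (Sum.inr 1) * v (Sum.inr 1)) * w 11 + (-v (Sum.inr 1) * v (Sum.inr 2)) * w 12,
    (-2 * v (Sum.inl 0) * v (Sum.inl 1)) * w 0 + (2 * v (Sum.inl 1) * v (Sum.inr 0)) * w 1 + (2 * v (Sum.inl 0)
      * v (Sum.inr 1)) * w 2 + (-v (Sum.inl 0) * v (Sum.inr 2)) * w 4 + (-v (Sum.inl 1) * v (Sum.inr 2)) * w 5 +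
      (v (Sum.inl 2) * v (Sum.inr 2)) * w 6 + (-2 * v (Sum.inr 0) * v (Sum.inr 1)) * w 9 + (-v (Sum.inr 0) * v
      (Sum.inr 2)) * w 10 + (-v (Sum.inr 1) * v (Sum.inr 2)) * w 11 + (v (Sum.inr 2) * v (Sum.inr 2)) * w 12,
    (v (Sum.inl 2) * v (Sum.inl 2)) * w 2 + (v (Sum.inl 1) * v (Sum.inl 1)) * w 3 + (v (Sum.inl 1) * v (Sum.inl
      2)) * w 4 + (v (Sum.inl 0) * v (Sum.inr 0) - v (Sum.inl 1) * v (Sum.inr 1) - v (Sum.inl 2) * v (Sum.inr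
      2)) * w 7 + (-v (Sum.inl 2) * v (Sum.inr 0)) * w 11 + (-v (Sum.inl 1) * v (Sum.inr 0)) * w 12 + (-v
      (Sum.inr 0) * v (Sum.inr 0)) * w 13,
    (v (Sum.inl 2) * v (Sum.inl 2)) * w 1 + (v (Sum.inl 0) * v (Sum.inl 0)) * w 3 + (v (Sum.inl 0) * v (Sum.inl
      2)) * w 5 + (-v (Sum.inl 0) * v (Sum.inr 0) + v (Sum.inl 1) * v (Sum.inr 1) - v (Sum.inl 2) * v (Sum.inr
      2)) * w 8 + (-v (Sum.inl 2) * v (Sum.inr 1)) * w 10 + (-v (Sum.inl 0) * v (Sum.inr 1)) * w 12 + (-v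
      (Sum.inr 1) * v (Sum.inr 1)) * w 13,
    (v (Sum.inl 1) * v (Sum.inl 1)) * w 1 + (v (Sum.inl 0) * v (Sum.inl 0)) * w 2 + (v (Sum.inl 0) * v (Sum.inl
      1)) * w 6 + (-v (Sum.inl 0) * v (Sum.inr 0) - v (Sum.inl 1) * v (Sum.inr 1) + v (Sum.inl 2) * v (Sum.inr
      2)) * w 9 + (-v (Sum.inl 1) * v (Sum.inr 2)) * w 10 + (-v (Sum.inl 0) * v (Sum.inr 2)) * w 11 + (-v
      (Sum.inr 2) * v (Sum.inr 2)) * w 13,
    (2 * v (Sum.inl 1) * v (Sum.inl 2)) * w 1 + (-v (Sum.inl 0) * v (Sum.inl 0)) * w 4 + (v (Sum.inl 0) * v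
      (Sum.inl 1)) * w 5 + (v (Sum.inl 0) * v (Sum.inl 2)) * w 6 + (-2 * v (Sum.inl 1) * v (Sum.inr 2)) * w 8 +
      (-2 * v (Sum.inl 2) * v (Sum.inr 1)) * w 9 + (-v (Sum.inl 0) * v (Sum.inr 0)) * w 10 + (v (Sum.inl 0) * v
      (Sum.inr 1)) * w 11 + (v (Sum.inl 0) * v (Sum.inr 2)) * w 12 + (2 * v (Sum.inr 1) * v (Sum.inr 2)) * w 13,
    (2 * v (Sum.inl 0) * v (Sum.inl 2)) * w 2 + (v (Sum.inl 0) * v (Sum.inl 1)) * w 4 + (-v (Sum.inl 1) * v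
      (Sum.inl 1)) * w 5 + (v (Sum.inl 1) * v (Sum.inl 2)) * w 6 + (-2 * v (Sum.inl 0) * v (Sum.inr 2)) * w 7 +
      (-2 * v (Sum.inl 2) * v (Sum.inr 0)) * w 9 + (v (Sum.inl 1) * v (Sum.inr 0)) * w 10 + (-v (Sum.inl 1) * v
      (Sum.inr 1)) * w 11 + (v (Sum.inl 1) * v (Sum.inr 2)) * w 12 + (2 * v (Sum.inr 0) * v (Sum.inr 2)) * w 13,
    (2 * v (Sum.inl 0) * v (Sum.inl 1)) * w 3 + (v (Sum.inl 0) * v (Sum.inl 2)) * w 4 + (v (Sum.inl 1) * v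
      (Sum.inl 2)) * w 5 + (-v (Sum.inl 2) * v (Sum.inl 2)) * w 6 + (-2 * v (Sum.inl 0) * v (Sum.inr 1)) * w 7 +
      (-2 * v (Sum.inl 1) * v (Sum.inr 0)) * w 8 + (v (Sum.inl 2) * v (Sum.inr 0)) * w 10 + (v (Sum.inl 2) * v
      (Sum.inr 1)) * w 11 + (-v (Sum.inl 2) * v (Sum.inr 2)) * w 12 + (2 * v (Sum.inr 0) * v (Sum.inr 1)) * w 13,
    (v (Sum.inl 0) * v (Sum.inl 0)) * w 7 + (v (Sum.inl 1) * v (Sum.inl 1)) * w 8 + (v (Sum.inl 2) * v (Sum.inl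
      2)) * w 9 + (-v (Sum.inl 1) * v (Sum.inl 2)) * w 10 + (-v (Sum.inl 0) * v (Sum.inl 2)) * w 11 + (-v
      (Sum.inl 0) * v (Sum.inl 1)) * w 12 + (-v (Sum.inl 0) * v (Sum.inr 0) - v (Sum.inl 1) * v (Sum.inr 1) - v
      (Sum.inl 2) * v (Sum.inr 2)) * w 13]
  map_add' a b := by
    ext k
    fin_cases k <;> simp <;> ring
  map_smul' c a := by
    ext k
    fin_cases k <;> simp <;> ring

theorem form_eq (x v : V6) : f x v = x (Sum.inr 0) * v (Sum.inl 0) - x (Sum.inl 0) * v (Sum.inr 0) +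
    (x (Sum.inr 1) * v (Sum.inl 1) - x (Sum.inl 1) * v (Sum.inr 1)) +
    (x (Sum.inr 2) * v (Sum.inl 2) - x (Sum.inl 2) * v (Sum.inr 2)) := by
  rw [sympForm_def, dotProduct, Fintype.sum_sum_type, Fin.sum_univ_three, Fin.sum_univ_three]
  simp only [J_mulVec_inl, J_mulVec_inr]
  ring

set_option maxHeartbeats 8000000 in
theorem ntv_ww (v x y z : V6) :
    Ntv v (ww x y z) = f x v • ww v y z + f y v • ww x v z + f z v • ww x y v := by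
  rw [form_eq, form_eq, form_eq]
  ext k
  fin_cases k <;>
  · simp [Ntv, ww, cX, cY, d3]
    ring

set_option maxHeartbeats 4000000 in
theorem ww_tv (a b c : F3) (v x y z : V6) :
    ww (x + a • v) (y + b • v) (z + c • v) = ww x y z + a • ww v y z + b • ww x v z + c • ww x y v := by
  ext k
  fin_cases k <;>
  · simp [ww, cX, cY, d3]
    ring

/-- the action of `transv v k` on `V₁₄` -/
def Xtv (v : V6) (k : F3) : V14 →ₗ[F3] V14 := 1 + k • Ntv v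

theorem Xtv_apply (v : V6) (k : F3) (w : V14) : Xtv v k w = w + k • Ntv v w := rfl

theorem rel_tv (v : V6) (k : F3) : Rel (transv v k) (Xtv v k) := by
  intro x y z
  rw [coe_transv, sympTransvection_mulVec, sympTransvection_mulVec, sympTransvection_mulVec, ww_tv, Xtv_apply, ntv_ww,
    smul_add, smul_add, smul_smul, smul_smul, smul_smul]
  abel

end Cfsg.Agent.H38.F43
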